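set_option autoImplicit false
namespace Cfsg.Agent.Lib.Helper6.TCD.L37X
noncomputable def QX (i : Nat) : Nat := Nat.land (Nat.shiftRight 0x36be7b64b2ecb1d14ddea20461af58f33f0a9814b59d10c350989707e130df1996c83a948a94254089a5c1 (Nat.mul 6 (Nat.land i 63))) 63
end Cfsg.Agent.Lib.Helper6.TCD.L37X
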